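import Groth.Agent.Lib.Weight4.Fibre
import Groth.Agent.Lib.RInv29.Henselian
import Groth.Prelude.Def_MoreMor
import Mathlib

/-!
# Counting geometric points of fibres of quasi-finite morphisms
-/

set_option autoImplicit false
set_option linter.style.haveILetI false
universe u

open AlgebraicGeometry CategoryTheory Limits IsLocalRing

namespace Groth.Agent.GeomPts5

open Groth.Agent.Weight

variable {X Y : Scheme.{u}}

theorem isSepClosed_residueField_spec (K : Type u) [Field K] [IsSepClosed K]
    (p : Spec (CommRingCat.of K)) : IsSepClosed ((Spec (CommRingCat.of K)).residueField p) := by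
  haveI : p.asIdeal.IsMaximal := by
    rw [Ideal.eq_bot_of_prime p.asIdeal]
    exact Ideal.bot_isMaximal
  haveI : IsSepClosed p.asIdeal.ResidueField := RInv29.isSepClosed_of_ringEquiv
    (RingEquiv.ofBijective (algebraMap K p.asIdeal.ResidueField)
      ⟨(algebraMap K p.asIdeal.ResidueField).injective, Ideal.algebraMap_residueField_surjective p.asIdeal⟩)
  exact RInv29.isSepClosed_of_ringEquiv (Scheme.Spec.residueFieldIso (CommRingCat.of K) p).symm.commRingCatIsoToRingEquiv

/-- Over a separably closed field geometric sections are points. -/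
theorem bijective_pt {P : Scheme.{u}} {K : Type u} [Field K] [IsSepClosed K] {Ω : Type u} [Field Ω]
    [IsAlgClosed Ω] (π : P ⟶ Spec (CommRingCat.of K)) [LocallyQuasiFinite π] [LocallyOfFiniteType π]
    (τ : Spec (CommRingCat.of Ω) ⟶ Spec (CommRingCat.of K)) :
    Function.Bijective fun c : {c : Spec (CommRingCat.of Ω) ⟶ P // c ≫ π = τ} => pt c.1 := by
  constructor
  · intro a b hab
    obtain ⟨z, hz⟩ : ∃ z, pt b.1 = z := ⟨_, rfl⟩
    have ha : pt a.1 = z := hab.trans hz
    have h1 : π z = pt τ := by rw [← hz, ← pt_comp, b.2]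
    letI := (π.residueFieldMap z).hom.toAlgebra
    haveI : Module.Finite ((Spec (CommRingCat.of K)).residueField (π z)) (P.residueField z) :=
      RingHom.finite_algebraMap.mp (finite_residueFieldMap π z (π.quasiFiniteAt z))
    haveI := isSepClosed_residueField_spec K (π z)
    have hone : Nat.card {a : Spec (CommRingCat.of Ω) ⟶ P // a ≫ π = τ ∧ pt a = z} = 1 :=
      (natCard_lifts_over π z (π.quasiFiniteAt z) τ h1).1.trans
        (IsPurelyInseparable.finSepDegree_eq_one _ _)
    haveI := (Nat.card_eq_one_iff_unique.1 hone).1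
    exact Subtype.ext (congrArg (fun x => x.1) (Subsingleton.elim
      (⟨a.1, a.2, ha⟩ : {a : Spec (CommRingCat.of Ω) ⟶ P // a ≫ π = τ ∧ pt a = z}) ⟨b.1, b.2, hz⟩))
  · intro z
    obtain ⟨a, ha, haz⟩ := exists_lift_of_eq π z (π.quasiFiniteAt z) τ
      (Subsingleton.elim (α := PrimeSpectrum K) _ _)
    exact ⟨⟨a, ha⟩, haz⟩

/-- The points of the geometric fibre are the lifts of a geometric point. -/
theorem card_geomFiber (f : X ⟶ Y) [LocallyQuasiFinite f] [LocallyOfFiniteType f] {Ω : Type u} [Field Ω]
    [IsAlgClosed Ω] (t : Spec (CommRingCat.of Ω) ⟶ Y) (y : Y) (ht : pt t = y) :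
    ENat.card ↥(MoreMor.geomFiber f y) = ENat.card {a : Spec (CommRingCat.of Ω) ⟶ X // a ≫ f = t} := by
  obtain ⟨c, hc⟩ := exists_eq_fieldPt t y ht
  letI : Algebra (Y.residueField y) Ω := c.hom.toAlgebra
  let K := SeparableClosure (Y.residueField y)
  haveI : IsSepClosed K := inferInstance
  let σ : K →ₐ[Y.residueField y] Ω := IsSepClosed.lift
  let k := Spec.map (CommRingCat.ofHom (algebraMap (Y.residueField y) K))
  let τ : Spec (CommRingCat.of Ω) ⟶ Spec (CommRingCat.of K) := Spec.map (CommRingCat.ofHom σ.toRingHom)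
  let g := k ≫ Y.fromSpecResidueField y
  have hτ : τ ≫ g = t := by
    rw [← hc]
    show _ ≫ Spec.map _ ≫ _ = Spec.map c ≫ _
    rw [← Category.assoc, ← Spec.map_comp]
    congr 2
    ext r
    exact σ.commutes r
  haveI : LocallyQuasiFinite (pullback.snd f g) := MorphismProperty.pullback_snd f g inferInstance
  haveI : LocallyOfFiniteType (pullback.snd f g) := MorphismProperty.pullback_snd f g inferInstance
  let e : {a : Spec (CommRingCat.of Ω) ⟶ X // a ≫ f = t} ≃
      {c : Spec (CommRingCat.of Ω) ⟶ pullback f g // c ≫ pullback.snd f g = τ} :=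
    { toFun := fun a => ⟨pullback.lift a.1 τ (by rw [a.2, hτ]), pullback.lift_snd ..⟩
      invFun := fun c => ⟨c.1 ≫ pullback.fst f g, by
        rw [Category.assoc, pullback.condition, ← Category.assoc, c.2, hτ]⟩
      left_inv := fun a => Subtype.ext (pullback.lift_fst ..)
      right_inv := fun c => Subtype.ext (pullback.hom_ext (pullback.lift_fst ..)
        ((pullback.lift_snd ..).trans c.2.symm)) }
  rw [ENat.card_congr (e.trans (Equiv.ofBijective _ (bijective_pt (pullback.snd f g) τ)))]
  exact ENat.card_congr (pullbackLeftPullbackSndIso f (Y.fromSpecResidueField y) k).hom.homeomorph.toEquiv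

/-- Connected components of the geometric fibre are its points. -/
theorem nGeomConnComp_eq (f : X ⟶ Y) [LocallyQuasiFinite f] (y : Y) :
    MoreMor.nGeomConnComp f y = ENat.card ↥(MoreMor.geomFiber f y) := by
  let K := SeparableClosure (Y.residueField y)
  let k := Spec.map (CommRingCat.ofHom (algebraMap (Y.residueField y) K))
  haveI : LocallyQuasiFinite (f.fiberToSpecResidueField y) :=
    inferInstanceAs (LocallyQuasiFinite (pullback.snd f (Y.fromSpecResidueField y)))
  let s := pullback.snd (f.fiberToSpecResidueField y) k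
  haveI : LocallyQuasiFinite s := inferInstanceAs (LocallyQuasiFinite (pullback.snd (f.fiberToSpecResidueField y) k))
  have hd := s.isDiscrete_preimage_singleton (IsLocalRing.closedPoint K)
  haveI : DiscreteTopology ↥(MoreMor.geomFiber f y) := isDiscrete_univ_iff.mp
    (hd.mono fun z _ => Subsingleton.elim (α := PrimeSpectrum K) (s z) _)
  refine (ENat.card_congr (Equiv.ofBijective (_root_.ConnectedComponents.mk : ↥(MoreMor.geomFiber f y) → _)
    ⟨fun a b h => ?_, fun c => c.exists_rep⟩)).symm
  have h1 : a ∈ connectedComponent b := ConnectedComponents.coe_eq_coe'.mp h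
  rwa [totallyDisconnectedSpace_iff_connectedComponent_singleton.mp inferInstance b] at h1

theorem nGeomConnComp_eq_card (f : X ⟶ Y) [LocallyQuasiFinite f] [LocallyOfFiniteType f] {Ω : Type u} [Field Ω]
    [IsAlgClosed Ω] (t : Spec (CommRingCat.of Ω) ⟶ Y) (y : Y) (ht : pt t = y) :
    MoreMor.nGeomConnComp f y = ENat.card {a : Spec (CommRingCat.of Ω) ⟶ X // a ≫ f = t} := by
  rw [nGeomConnComp_eq, card_geomFiber f t y ht]

end Groth.Agent.GeomPts5
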