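import Groth.Agent.Lib.GeomPts5.Count
import Groth.Agent.Lib.Weight4.Max
import Groth.Agent.Lib.DVRVal.Basic
import Groth.Agent.Lib.UnivOpenFin5.DVRExt
import Groth.Agent.Lib.UnivOpenFin5.DVRPoint
import Mathlib

/-!
# Discrete valuation rings realising numbers of geometric points
-/

set_option autoImplicit false
set_option linter.style.haveILetI false
universe u

open AlgebraicGeometry CategoryTheory Limits IsLocalRing

namespace Groth.Agent.GeomPts5

open Groth.Agent.Weight

variable {X Y : Scheme.{u}}

/-- Points over a field all of whose geometric sections are defined over it. -/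
theorem card_eq_lifts {P : Scheme.{u}} {L : Type u} [Field L] {Ω : Type u} [Field Ω] [IsAlgClosed Ω]
    (π : P ⟶ Spec (CommRingCat.of L)) [LocallyQuasiFinite π] [LocallyOfFiniteType π]
    (ρ : Spec (CommRingCat.of Ω) ⟶ Spec (CommRingCat.of L))
    (h : ∀ c : Spec (CommRingCat.of Ω) ⟶ P, c ≫ π = ρ →
      ∃ s : Spec (CommRingCat.of L) ⟶ P, s ≫ π = 𝟙 _ ∧ ρ ≫ s = c) :
    ENat.card P = ENat.card {c : Spec (CommRingCat.of Ω) ⟶ P // c ≫ π = ρ} := by
  refine (ENat.card_congr (Equiv.ofBijective (fun c : {c : Spec (CommRingCat.of Ω) ⟶ P // c ≫ π = ρ} => pt c.1)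
    ⟨fun a b hab => ?_, fun z => ?_⟩)).symm
  · obtain ⟨s, hs, hsa⟩ := h a.1 a.2
    obtain ⟨s', hs', hsb⟩ := h b.1 b.2
    have hpt : pt s = pt s' := by
      have h1 : pt a.1 = s (pt ρ) := by rw [← hsa, pt_comp]
      have h2 : pt b.1 = s' (pt ρ) := by rw [← hsb, pt_comp]
      have h3 : pt ρ = IsLocalRing.closedPoint L := Subsingleton.elim (α := PrimeSpectrum L) _ _
      rw [h3] at h1 h2
      exact h1.symm.trans (hab.trans h2)
    exact Subtype.ext (by rw [← hsa, ← hsb, section_ext π s s' hs hs' hpt])
  · obtain ⟨a, ha, haz⟩ := exists_lift_of_eq π z (π.quasiFiniteAt z) ρ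
      (Subsingleton.elim (α := PrimeSpectrum L) _ _)
    exact ⟨⟨a, ha⟩, haz⟩

/-- The fibre of a base change as the lifts of a geometric point. -/
theorem card_fiber_eq (f : X ⟶ Y) [LocallyQuasiFinite f] [LocallyOfFiniteType f] {T : Scheme.{u}} (g : T ⟶ Y)
    (v : T) {L : Type u} [Field L] (ι : Spec (CommRingCat.of L) ⟶ T) [IsPreimmersion ι]
    (hι : ι (IsLocalRing.closedPoint L) = v) {Ω : Type u} [Field Ω] [IsAlgClosed Ω]
    (ρ : Spec (CommRingCat.of Ω) ⟶ Spec (CommRingCat.of L))
    (h : ∀ a : Spec (CommRingCat.of Ω) ⟶ X, a ≫ f = ρ ≫ ι ≫ g →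
      ∃ s : Spec (CommRingCat.of L) ⟶ X, s ≫ f = ι ≫ g ∧ ρ ≫ s = a) :
    ENat.card ↥((pullback.snd f g).fiber v) = MoreMor.nGeomConnComp f (g v) := by
  let p := pullback.snd f g
  let q := pullback.fst p ι
  have hr : Set.range ι = {v} := by
    rw [← hι]
    exact Set.eq_singleton_iff_unique_mem.2 ⟨⟨_, rfl⟩, by
      rintro _ ⟨w, rfl⟩; exact congrArg ι (Subsingleton.elim (α := PrimeSpectrum L) _ _)⟩
  haveI : IsPreimmersion q := MorphismProperty.pullback_fst p ι inferInstance
  have hrange : Set.range q = p ⁻¹' {v} := by rw [Scheme.Pullback.range_fst, hr]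
  have e : ↥((pullback.snd f g).fiber v) ≃ ↥(pullback p ι) :=
    ((p.fiberHomeo v).toEquiv.trans (Equiv.setCongr hrange.symm)).trans
      (Equiv.ofInjective q q.isEmbedding.injective).symm
  rw [ENat.card_congr (e.trans (pullbackLeftPullbackSndIso f g ι).hom.homeomorph.toEquiv)]
  haveI : LocallyQuasiFinite (pullback.snd f (ι ≫ g)) := MorphismProperty.pullback_snd f _ inferInstance
  haveI : LocallyOfFiniteType (pullback.snd f (ι ≫ g)) := MorphismProperty.pullback_snd f _ inferInstance
  rw [card_eq_lifts (pullback.snd f (ι ≫ g)) ρ fun c hc => by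
    obtain ⟨s, hs, hsc⟩ := h (c ≫ pullback.fst f (ι ≫ g)) (by
      rw [Category.assoc, pullback.condition, ← Category.assoc, hc])
    exact ⟨pullback.lift s (𝟙 _) (by rw [Category.id_comp]; exact hs), pullback.lift_snd .., pullback.hom_ext
      (by rw [Category.assoc, pullback.lift_fst, hsc]) (by rw [Category.assoc, pullback.lift_snd, Category.comp_id, hc])⟩]
  rw [nGeomConnComp_eq_card f (ρ ≫ ι ≫ g) (g v) (by
    rw [pt_comp]
    show g (ι (pt ρ)) = g v
    rw [← hι]
    exact congrArg (fun w => g (ι w)) (Subsingleton.elim (α := PrimeSpectrum L) _ _))]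
  exact ENat.card_congr
    { toFun := fun c => ⟨c.1 ≫ pullback.fst f (ι ≫ g), by
        rw [Category.assoc, pullback.condition, ← Category.assoc, c.2]⟩
      invFun := fun a => ⟨pullback.lift a.1 ρ a.2, pullback.lift_snd ..⟩
      left_inv := fun c => Subtype.ext (pullback.hom_ext (pullback.lift_fst ..) ((pullback.lift_snd ..).trans c.2.symm))
      right_inv := fun a => Subtype.ext (pullback.lift_fst ..) }

/-- Geometric points over a point with values in a field are defined over a finite extension. -/
theorem exists_field_of_lifts (f : X ⟶ Y) [LocallyQuasiFinite f] [LocallyOfFiniteType f] [QuasiCompact f]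
    {K : Type u} [Field K] (tK : Spec (CommRingCat.of K) ⟶ Y) :
    ∃ L : IntermediateField K (AlgebraicClosure K), FiniteDimensional K L ∧
      ∀ a : Spec (CommRingCat.of (AlgebraicClosure K)) ⟶ X,
        a ≫ f = Spec.map (CommRingCat.ofHom (algebraMap K (AlgebraicClosure K))) ≫ tK →
        ∃ s : Spec (CommRingCat.of L) ⟶ X, s ≫ f = Spec.map (CommRingCat.ofHom (algebraMap K L)) ≫ tK ∧
          Spec.map (CommRingCat.ofHom (algebraMap L (AlgebraicClosure K))) ≫ s = a := by
  classical
  let Ω := AlgebraicClosure K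
  let t : Spec (CommRingCat.of Ω) ⟶ Y := Spec.map (CommRingCat.ofHom (algebraMap K Ω)) ≫ tK
  obtain ⟨cK, hcK⟩ := exists_eq_fieldPt tK (pt tK) rfl
  haveI := finite_lifts f (fun z => f.quasiFiniteAt z) t (f.finite_preimage_singleton _)
  have hfin : ∀ a : {a : Spec (CommRingCat.of Ω) ⟶ X // a ≫ f = t},
      ∃ S : Finset Ω, ∀ L : IntermediateField K Ω, (S : Set Ω) ⊆ L → ∀ (e : X.residueField (pt a.1) ⟶ CommRingCat.of Ω),
        fieldPt (pt a.1) e = a.1 → ∀ r, e.hom r ∈ L := by
    rintro ⟨a, ha⟩
    obtain ⟨e₀, he₀⟩ := exists_eq_fieldPt a (pt a) rfl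
    letI := (f.residueFieldMap (pt a)).hom.toAlgebra
    haveI : Module.Finite (Y.residueField (f (pt a))) (X.residueField (pt a)) :=
      RingHom.finite_algebraMap.mp (finite_residueFieldMap f _ (f.quasiFiniteAt _))
    obtain ⟨s, hs⟩ := (Module.finite_def.1 ‹_› : (⊤ : Submodule (Y.residueField (f (pt a))) (X.residueField (pt a))).FG)
    refine ⟨s.image e₀.hom, fun L hL e he r => ?_⟩
    obtain rfl : e = e₀ := fieldPt_injective _ (he.trans he₀.symm)
    have hbase : ∀ c, e.hom (algebraMap (Y.residueField (f (pt a))) (X.residueField (pt a)) c) ∈ L := by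
      have h1 : f (pt a) = pt tK := by
        rw [← pt_comp, ha]
        exact congrArg tK (Subsingleton.elim (α := PrimeSpectrum K) _ _)
      obtain ⟨c', hc'⟩ := exists_eq_fieldPt tK (f (pt a)) h1.symm
      have h2 : fieldPt (f (pt a)) (f.residueFieldMap (pt a) ≫ e) =
          fieldPt (f (pt a)) (c' ≫ CommRingCat.ofHom (algebraMap K Ω)) := by
        rw [← fieldPt_comp, he, ha]
        show Spec.map _ ≫ tK = _
        rw [← hc']
        simp only [fieldPt, Spec.map_comp, Category.assoc]
      intro c
      have h3 := congr($(fieldPt_injective _ h2).hom c)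
      refine (h3 : e.hom (algebraMap _ _ c) = algebraMap K Ω (c'.hom c)) ▸ L.algebraMap_mem _
    have hr : r ∈ Submodule.span (Y.residueField (f (pt a))) (s : Set (X.residueField (pt a))) := by
      rw [hs]; trivial
    induction hr using Submodule.span_induction with
    | mem x hx => exact hL (Finset.mem_coe.2 (Finset.mem_image_of_mem _ hx))
    | zero => rw [map_zero]; exact zero_mem L
    | add x y _ _ hx hy => rw [map_add]; exact add_mem hx hy
    | smul c x _ hx => rw [Algebra.smul_def, map_mul]; exact mul_mem (hbase c) hx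
  choose S hS using hfin
  let T : Set Ω := ⋃ a, (S a : Set Ω)
  haveI : Finite T := (Set.finite_iUnion fun a => (S a).finite_toSet).to_subtype
  let L := IntermediateField.adjoin K T
  refine ⟨L, IntermediateField.finiteDimensional_adjoin fun x _ => Algebra.IsIntegral.isIntegral x, fun a ha => ?_⟩
  obtain ⟨e, he⟩ := exists_eq_fieldPt a (pt a) rfl
  have hmem : ∀ r, e.hom r ∈ L.toSubalgebra.toSubring := fun r => hS ⟨a, ha⟩ L
    ((Set.subset_iUnion (fun a => (S a : Set Ω)) ⟨a, ha⟩).trans (IntermediateField.subset_adjoin K T)) e he r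
  let e' : X.residueField (pt a) ⟶ CommRingCat.of L := CommRingCat.ofHom (e.hom.codRestrict L.toSubalgebra.toSubring hmem)
  have hρ : Spec.map (CommRingCat.ofHom (algebraMap L Ω)) ≫ fieldPt (pt a) e' = a := by
    conv_rhs => rw [← he]
    rw [fieldPt, ← Category.assoc, ← Spec.map_comp]
    rfl
  refine ⟨fieldPt (pt a) e', ?_, hρ⟩
  obtain ⟨w, hw⟩ : ∃ w, pt (fieldPt (pt a) e' ≫ f) = w := ⟨_, rfl⟩
  obtain ⟨c₁, hc₁⟩ := exists_eq_fieldPt (fieldPt (pt a) e' ≫ f) w hw
  have hw2 : pt (Spec.map (CommRingCat.ofHom (algebraMap K L)) ≫ tK) = w := by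
    rw [← hw, pt_comp, pt_comp, pt_fieldPt, ← pt_comp a f, ha]
    show tK _ = tK _
    exact congrArg tK (Subsingleton.elim (α := PrimeSpectrum K) _ _)
  obtain ⟨c₂, hc₂⟩ := exists_eq_fieldPt (Spec.map (CommRingCat.ofHom (algebraMap K L)) ≫ tK) w hw2
  rw [← hc₁, ← hc₂]
  congr 1
  have h4 : fieldPt w (c₁ ≫ CommRingCat.ofHom (algebraMap L Ω)) = fieldPt w (c₂ ≫ CommRingCat.ofHom (algebraMap L Ω)) := by
    simp only [fieldPt, Spec.map_comp, Category.assoc] at hc₁ hc₂ hρ ⊢
    rw [hc₁, hc₂, reassoc_of% hρ, ha, ← Category.assoc, ← Spec.map_comp]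
    rfl
  have h5 := fieldPt_injective w h4
  ext r
  exact congr($(h5).hom r)

/-- The integral closure of a complete DVR with algebraically closed residue field in a finite extension. -/
theorem integralClosure_dvr (A : Type u) [CommRing A] [IsDomain A] [IsDiscreteValuationRing A]
    [IsAdicComplete (maximalIdeal A) A] [IsAlgClosed (ResidueField A)] (L : Type u) [Field L]
    [Algebra (FractionRing A) L] [FiniteDimensional (FractionRing A) L] [Algebra A L]
    [IsScalarTower A (FractionRing A) L] :
    ∃ (_ : IsDiscreteValuationRing (integralClosure A L)), IsLocalHom (algebraMap A (integralClosure A L)) ∧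
      IsAlgClosed (ResidueField (integralClosure A L)) := by
  haveI : FaithfulSMul A L := (faithfulSMul_iff_algebraMap_injective A L).2 (by
    rw [IsScalarTower.algebraMap_eq A (FractionRing A) L]
    exact (algebraMap (FractionRing A) L).injective.comp (IsFractionRing.injective A _))
  let B := integralClosure A L
  haveI : Module.Finite A B := CplDomain.isN2_of_complete A L inferInstance
  haveI : IsNoetherianRing B := IsNoetherianRing.of_finite A B
  haveI : IsIntegrallyClosed B := integralClosure.isIntegrallyClosedOfFiniteExtension (FractionRing A)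
  haveI : Algebra.IsIntegral A B := Algebra.IsIntegral.of_finite A B
  haveI : Ring.DimensionLEOne B := Ring.DimensionLEOne.of_isIntegral A B
  haveI : IsDedekindDomain B := { }
  obtain ⟨_, -⟩ := CplDomain.completeLocal_of_finite A B
  have hinjB : Function.Injective (algebraMap A B) := fun a b h =>
    FaithfulSMul.algebraMap_injective A L (congrArg Subtype.val h)
  have hmB : (maximalIdeal B).comap (algebraMap A B) = maximalIdeal A :=
    IsLocalRing.eq_maximalIdeal (Ideal.isMaximal_comap_of_isIntegral_of_isMaximal (R := A) (maximalIdeal B))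
  haveI hloc : IsLocalHom (algebraMap A B) := ⟨fun a ha => by_contra fun hna =>
    (hmB.ge hna : algebraMap A B a ∈ maximalIdeal B) ha⟩
  have hnf : ¬ IsField B := fun hF =>
    IsDiscreteValuationRing.not_isField A (isField_of_isIntegral_of_isField hinjB hF)
  haveI hdvr : IsDiscreteValuationRing B :=
    ((IsDiscreteValuationRing.TFAE B hnf).out 2 0).mp (show IsDedekindDomain B from inferInstance)
  refine ⟨hdvr, hloc, ?_⟩
  haveI : Module.Finite A (ResidueField B) :=
    Module.Finite.of_surjective (IsScalarTower.toAlgHom A B (ResidueField B)).toLinearMap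
      IsLocalRing.residue_surjective
  haveI : Module.Finite (ResidueField A) (ResidueField B) :=
    Module.Finite.of_restrictScalars_finite A (ResidueField A) (ResidueField B)
  haveI : Algebra.IsIntegral (ResidueField A) (ResidueField B) := Algebra.IsIntegral.of_finite _ _
  exact IsAlgClosed.of_ringEquiv (ResidueField A) (ResidueField B)
    (RingEquiv.ofBijective _ (IsAlgClosed.algebraMap_bijective_of_isIntegral (k := ResidueField A) (K := ResidueField B)))

end Groth.Agent.GeomPts5
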