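import Groth.Agent.Lib.GeomPts5.Proper
import Groth.Agent.Lib.GeomSpread4.Count
import Groth.Agent.Lib.Weight4.MultRank
import Mathlib

/-!
# Geometric points of étale morphisms
-/

set_option autoImplicit false
set_option linter.style.haveILetI false
universe u

open AlgebraicGeometry CategoryTheory Limits IsLocalRing

namespace Groth.Agent.GeomPts5

open Groth.Agent.Weight

variable {X Y : Scheme.{u}}

theorem nGeomConnComp_eq_finrank (f : X ⟶ Y) [Etale f] [IsFinite f] (y : Y) :
    MoreMor.nGeomConnComp f y = (f.finrank y : ℕ∞) := by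
  classical
  obtain ⟨t, ht⟩ := exists_geomPt y
  have h1 := fibreIntegral_wt_eq_finrank f y
  have hw : ∀ x, wt f x = 1 := fun x => by
    rw [wt_eq, lenFib_eq_one_of_map_eq _ (map_maximalIdeal_stalkMap f x), insDeg_eq_one f x]
    rfl
  rw [fibreIntegral_eq f (fun z => f.quasiFiniteAt z) _ t y ht (f.finite_preimage_singleton _)] at h1
  haveI := finite_lifts f (fun z => f.quasiFiniteAt z) t (f.finite_preimage_singleton _)
  rw [nGeomConnComp_eq_card f t y ht, ENat.card_eq_coe_natCard]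
  letI := Fintype.ofFinite {a : Spec (CommRingCat.of (AlgebraicClosure (Y.residueField y))) ⟶ X // a ≫ f = t}
  simp only [hw, finsum_eq_sum_of_fintype, Finset.sum_const, Finset.card_univ, nsmul_eq_mul, mul_one] at h1
  rw [Nat.card_eq_fintype_card]
  exact congrArg Nat.cast (by exact_mod_cast h1)

theorem card_geomFiber_eq (f : X ⟶ Y) [LocallyQuasiFinite f] (y : Y) :
    ENat.card ↥(MoreMor.geomFiber f y) = MoreMor.nGeomConnComp f y :=
  (nGeomConnComp_eq f y).symm

theorem locally_const_of_finite_restrict (f : X ⟶ Y) [Etale f] (U : Y.Opens) [IsFinite (f ∣_ U)]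
    (y : Y) (hy : y ∈ U) :
    ∃ V : Y.Opens, y ∈ V ∧ ∀ y' ∈ V, MoreMor.nGeomConnComp f y' = MoreMor.nGeomConnComp f y := by
  haveI : Etale (f ∣_ U) := IsZariskiLocalAtTarget.restrict (P := @Etale) ‹_› U
  have hcount : ∀ v : U.toScheme, MoreMor.nGeomConnComp f (U.ι v) = ((f ∣_ U).finrank v : ℕ∞) := fun v => by
    rw [← nGeomConnComp_eq_finrank]
    exact ((GeomSpread4.count_baseChange (isPullback_morphismRestrict f U).flip v).2).symm
  have hopen := ((f ∣_ U).isLocallyConstant_finrank).isOpen_fiber ((f ∣_ U).finrank ⟨y, hy⟩)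
  refine ⟨U.ι ''ᵁ ⟨_, hopen⟩, ⟨⟨y, hy⟩, rfl, rfl⟩, ?_⟩
  rintro _ ⟨v, hv, rfl⟩
  show MoreMor.nGeomConnComp f (U.ι v) = MoreMor.nGeomConnComp f (U.ι ⟨y, hy⟩)
  rw [hcount, hcount]
  exact congrArg Nat.cast hv

end Groth.Agent.GeomPts5
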