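import Groth.Agent.Lib.GeomPts5.Lsc
import Mathlib

/-!
# A locally constant number of geometric points forces finiteness
-/

set_option autoImplicit false
set_option linter.style.haveILetI false
universe u

open AlgebraicGeometry CategoryTheory Limits IsLocalRing

namespace Groth.Agent.GeomPts5

open Groth.Agent.Weight

variable {X Y : Scheme.{u}}

/-- If the number of geometric points is constant near a fibre of universal openness, the morphism is
finite near it. -/
theorem exists_isFinite_nhd (f : X ⟶ Y) [LocallyQuasiFinite f] [LocallyOfFiniteType f] [IsSeparated f]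
    [QuasiCompact f] (y : Y) (hopen : ∀ x : X, f x = y → EGA43.IsUnivOpenAt f x)
    (hc : ∃ V ∈ nhds y, ∀ z ∈ V, MoreMor.nGeomConnComp f z = MoreMor.nGeomConnComp f y) :
    ∃ V : Y.Opens, y ∈ V ∧ IsFinite (f ∣_ V) := by
  classical
  obtain ⟨V₀, hV₀, hconst⟩ := hc
  obtain ⟨V₁, hV₁, hV₁o, hyV₁⟩ := mem_nhds_iff.1 hV₀
  obtain ⟨U, gU, u, n, W, N, hgU, hu, huN, hfinW, hdisj, hn, hN⟩ := exists_nhd_split f y hopen
  haveI := hgU
  obtain ⟨Y₁, hY₁, hyY₁, hY₁sub⟩ := exists_isAffineOpen_mem_and_subset (U := ⟨V₁, hV₁o⟩) (x := y) hyV₁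
  obtain ⟨N', hN', huN', hN'sub⟩ := exists_isAffineOpen_mem_and_subset (U := N ⊓ gU ⁻¹ᵁ Y₁) (x := u)
    ⟨huN, by show gU u ∈ Y₁; rw [hu]; exact hyY₁⟩
  let V : Y.Opens := ⟨gU '' N', isOpenMap_of_etale gU _ N'.2⟩
  have hS : ∀ v ∈ N', MoreMor.nGeomConnComp f (gU v) = n := fun v hv =>
    (hconst _ (hV₁ (hY₁sub (hN'sub hv).2))).trans hn
  refine ⟨V, ⟨u, huN', hu⟩, ?_⟩
  -- finite after base change to `N'`
  let π := pullback.snd f gU
  let B := π ⁻¹ᵁ N'
  let ρ := pullback.snd f gU ∣_ N'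
  have hρ : IsFinite ρ := by
    let A := fun l => B.ι ⁻¹ᵁ W l
    haveI : ∀ l, IsFinite ((A l).ι ≫ ρ) := fun l => by
      haveI := hfinW l
      have h1 := isFinite_restrict_comp π (W l) N'
      haveI : IsOpenImmersion ((W l).ι ∣_ B) := inferInstance
      let i := IsOpenImmersion.isoOfRangeEq ((W l).ι ∣_ B) (A l).ι (by
        rw [Scheme.Opens.range_ι]
        ext z
        constructor
        · rintro ⟨a, rfl⟩
          show B.ι (((W l).ι ∣_ B) a) ∈ W l
          rw [← Scheme.Hom.comp_apply, morphismRestrict_ι]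
          exact (((W l).ι ⁻¹ᵁ B).ι a).2
        · intro hz
          refine ⟨⟨⟨B.ι z, hz⟩, z.2⟩, B.ι.isOpenEmbedding.injective ?_⟩
          rw [← Scheme.Hom.comp_apply, morphismRestrict_ι]; rfl)
      have h2 : IsFinite (i.inv ≫ ((W l).ι ∣_ B) ≫ ρ) := inferInstance
      rw [← Category.assoc, IsOpenImmersion.isoOfRangeEq_inv_fac] at h2
      exact h2
    have hsup := isFinite_finset_sup ρ A Finset.univ (fun l _ => inferInstance) (fun l _ l' _ hne => by
      rw [disjoint_iff]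
      ext z
      simp only [TopologicalSpace.Opens.coe_inf, Set.mem_inter_iff, TopologicalSpace.Opens.coe_bot,
        Set.mem_empty_iff_false, iff_false]
      rintro ⟨hz, hz'⟩
      exact hne (hdisj l l' (B.ι z) hz hz' (hN'sub z.2).1))
    have htop : Finset.univ.sup A = ⊤ := by
      rw [eq_top_iff]
      intro z _
      obtain ⟨l, hl⟩ := (hN _ (hN'sub z.2).1).2 (hS _ z.2) (B.ι z) rfl
      exact (Finset.le_sup (f := A) (Finset.mem_univ l)) (show z ∈ A l from hl)
    rw [htop] at hsup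
    haveI : IsIso (⊤ : B.toScheme.Opens).ι := inferInstanceAs (IsIso B.toScheme.topIso.hom)
    have h3 : IsFinite (inv (⊤ : B.toScheme.Opens).ι ≫ (⊤ : B.toScheme.Opens).ι ≫ ρ) := inferInstance
    rwa [IsIso.inv_hom_id_assoc] at h3
  -- descend along the surjection onto `V`
  let k : N'.toScheme ⟶ V.toScheme := gU.resLE V N' fun v hv => ⟨v, hv, rfl⟩
  have hk : k ≫ V.ι = N'.ι ≫ gU := Scheme.Hom.resLE_comp_ι ..
  haveI : Flat k := by
    haveI : Flat (k ≫ V.ι) := by rw [hk]; infer_instance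
    exact MorphismProperty.of_postcomp (W := @Flat) (W' := @IsOpenImmersion) k V.ι inferInstance ‹_›
  haveI : Surjective k := ⟨fun v => by
    obtain ⟨v', hv', hvv⟩ := v.2
    refine ⟨⟨v', hv'⟩, V.ι.isOpenEmbedding.injective ?_⟩
    rw [← Scheme.Hom.comp_apply, hk]
    exact hvv⟩
  haveI : IsAffine N' := hN'
  haveI : IsAffine Y₁ := hY₁
  haveI : QuasiSeparatedSpace V := by
    let j := Y.homOfLE (show V ≤ Y₁ by rintro _ ⟨v, hv, rfl⟩; exact (hN'sub hv).2)
    exact j.isOpenEmbedding.quasiSeparatedSpace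
  haveI : QuasiCompact k := inferInstance
  haveI := FpqcDesc.descendsAlong_isFinite.{u}
  have hpb : IsPullback ρ ((π ⁻¹ᵁ N').ι ≫ pullback.fst f gU) (N'.ι ≫ gU) f :=
    ((isPullback_morphismRestrict π N').paste_vert (IsPullback.of_hasPullback f gU).flip)
  let l : B.toScheme ⟶ (f ⁻¹ᵁ V).toScheme := IsOpenImmersion.lift (f ⁻¹ᵁ V).ι (B.ι ≫ pullback.fst f gU) (by
    rintro _ ⟨z, rfl⟩
    rw [Scheme.Opens.range_ι]
    refine ⟨π (B.ι z), z.2, ?_⟩
    show (π ≫ gU) (B.ι z) = f (pullback.fst f gU (B.ι z))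
    rw [← Scheme.Hom.comp_apply (pullback.fst f gU) f, pullback.condition])
  have hl : l ≫ (f ⁻¹ᵁ V).ι = B.ι ≫ pullback.fst f gU := IsOpenImmersion.lift_fac ..
  have hcomm : ρ ≫ k = l ≫ (f ∣_ V) := by
    rw [← cancel_mono V.ι, Category.assoc, Category.assoc, hk, morphismRestrict_ι, reassoc_of% hl]
    exact hpb.w
  have hsq : IsPullback ρ l k (f ∣_ V) :=
    IsPullback.of_bot (v₂₁ := (f ⁻¹ᵁ V).ι) (v₂₂ := V.ι) (h₃₁ := f)
      (by rw [hl, hk]; exact hpb) hcomm (isPullback_morphismRestrict f V)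
  exact MorphismProperty.of_isPullback_of_descendsAlong (P := @IsFinite)
    (Q := @Surjective ⊓ @Flat ⊓ @QuasiCompact) hsq ⟨⟨inferInstance, inferInstance⟩, inferInstance⟩ hρ

end Groth.Agent.GeomPts5
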